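import Cfsg.Agent.Lib.J2Grp.Gens

set_option autoImplicit false
set_option maxRecDepth 100000

namespace Cfsg.Agent.Lib.J2Grp

open Cfsg.Agent.Lib.Compute Cfsg.Agent.Lib.PermKit Equiv MulAction

/-- A level of the chain. -/
noncomputable def lv0 : LvlW := ⟨0, [[0], [1]], [.all], 100⟩

theorem L0 : levelOK 100 1 rows [] lv0.b (lv0.ws.map (wordC gc)) [] lv0.ops lv0.s = true := by decide +kernel

/-- A level of the chain. -/
noncomputable def lv1 : LvlW := ⟨39, [[0, 3, 2, 3, 3, 2], [0, 0, 0, 0, 1, 0, 0, 0, 1, 2, 3, 0, 3, 3, 2, 2]], [.all, .single 0, .diff 1 0, .row 0 0, .diff 1 0], 63⟩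

theorem L1 : levelOK 100 1 rows [0] lv1.b (lv1.ws.map (wordC gc)) [] lv1.ops lv1.s = true := by decide +kernel

/-- A level of the chain. -/
noncomputable def lv2 : LvlW := ⟨2, [[2, 1, 0, 1, 1, 1, 1, 2, 2, 2, 2, 1], [2, 3, 0, 0, 1, 0, 1, 1, 1, 1, 2, 2, 2, 2, 1, 0, 0, 1, 0]], [.all, .single 0, .diff 1 0, .row 0 0, .and 1 0, .row 0 39, .diff 1 0], 24⟩

theorem L2 : levelOK 100 1 rows [39, 0] lv2.b (lv2.ws.map (wordC gc)) [] lv2.ops lv2.s = true := by decide +kernel

/-- A level of the chain. -/
noncomputable def lv3 : LvlW := ⟨14, [[2, 1, 0, 1, 0, 0, 3, 2, 3, 3, 3, 3, 3, 0, 3, 3, 2, 2]], [.all, .single 0, .diff 1 0, .row 0 0, .and 1 0, .diff 2 1, .single 2, .diff 2 0,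
  .row 0 2, .and 1 0, .diff 2 1, .diff 5 2, .single 39, .diff 1 0, .row 0 39, .and 5 0,
  .diff 5 1, .diff 3 2, .nbr 0 2, .and 1 0, .com 0 4, .diff 4 0, .and 2 1, .fix 0,
  .row 0 49, .and 2 0], 4⟩

theorem L3 : levelOK 100 1 rows [2, 39, 0] lv3.b (lv3.ws.map (wordC gc)) [] lv3.ops lv3.s = true := by decide +kernel

/-- The program of the last level. -/
def lops : List Op := [.all, .single 0, .diff 1 0, .row 0 0, .and 1 0, .single 2, .diff 1 0, .row 0 2,
  .and 1 0, .row 0 14, .and 1 0, .diff 2 1, .row 0 39, .and 2 0, .diff 2 1, .nbr 0 1,
  .and 1 0]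

theorem Llast : levelOK 100 1 rows [14, 2, 39, 0] 1 [fc] [] lops 2 = true := by decide +kernel

/-- The final program. -/
def fops : List Op := [.all, .single 0, .diff 1 0, .row 0 0, .and 1 0, .diff 2 1, .single 1, .diff 2 0,
  .row 0 1, .and 1 0, .diff 2 1, .diff 5 2, .single 2, .diff 3 0, .row 0 2, .and 1 0,
  .and 5 1, .diff 6 2, .diff 6 3, .single 39, .diff 1 0, .row 0 39, .and 6 0, .diff 7 1,
  .and 7 2, .and 7 3, .diff 8 4, .and 6 5, .single 14, .diff 2 0, .row 0 14, .and 7 0,
  .and 7 1, .diff 8 2, .and 8 3, .and 5 4, .and 8 5, .fix 14, .fix 5, .fix 4,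
  .row 0 6, .diff 4 0, .diff 4 1, .and 4 2, .diff 4 3, .row 0 27, .diff 1 0, .row 0 28,
  .diff 1 0, .fix 7, .fix 6, .fix 5, .fix 0]

/-- The final closure. -/
def fin : List ℕ := [65716535658523131905, 19599675474668683265, 136608655662916624846946305, 377184912212954312145371137, 56493172417761378305, 9671425003723779598188545, 38046428344471257089, 130280183896971673601, 58028476235228941837664257, 135399757513382921864478721, 74939907695377907713, 377184874166535864018010113, 38685635451120434837192705, 58028448565121627391524865, 56493163622087786497, 56493163621668356097,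
  19342822337330348523782145, 93386660565599911937, 377184864943383729497178113, 184965687294580287236734977, 58028476235774299923808257, 148726927970681225217, 38046419548378234881, 65716544455035584513, 93386651769506889729, 183756743028230380479053825, 38685635451120434845581313, 56493233990412533769, 38685626227791278977843209, 351641306295365009425, 28823144268127272969, 19599728250807386112,
  176397774156689571873, 129127992467817234449, 56493348339621822481, 249031107667569934345, 38046736207097888768, 139503890185193521161, 18447140997525667873, 18447079424866123809, 36893665169119379473, 259407665091612508177, 10377077493311995904, 36893814702507819121, 19599745842993430537, 250184345831433306121, 9223584242927140913, 9223865717635416081,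
  10376804814528970752, 27670477849941245985, 360864643148434898977, 19599789823458541568, 130280192693064695817, 175244852652065947657, 249031441918811176969, 250184750451511001097, 19599912969180282889, 65716913890229485577, 55340620348851748897, 18447202570151657689, 176397387128680480768, 359711862380687261705, 129127570255419277345, 9223839329339572257,
  176397316759919525905, 18446921095141392697, 55340409243248361505, 10376769630031052800, 9223584242927140881, 360864476021979611136, 38047193603876323345, 18447123405280903177, 55340558776108318833, 27670583403166564369, 822033209806289895424, 822033157029824036873, 360864651943848443904, 10376664076998672384, 9223733776340746289, 9223698592035766329,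
  129127842934269411377, 359711844788543160377, 249031494695453196321, 19600053706039492617, 9223707387927462001, 36893621188427776313, 360864616759535075328, 56493594629991563264]

theorem Lf : finalOK 100 1 rows [1, 14, 2, 39, 0] fops fin = true := by decide +kernel

/-- The levels. -/
noncomputable def levels : List LvlW := [lv0, lv1, lv2, lv3]

theorem chain : ChainT 100 1 rows (fun F => levelOK 100 1 rows F 1 [fc] [] lops 2 = true ∧
    finalOK 100 1 rows (1 :: F) fops fin = true) [] (levels.map (LvlW.toLvl gc)) := ⟨L0, L1, L2, L3, Llast, Lf⟩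

theorem main_aux : Nat.card H = (levels.map LvlW.s).prod :=
  group_main_parity H_le gc_in H_even levels (by decide) aut_c (Enc.isCode_perm E pc) sign_c.1 sign_c.2
    (by norm_num) chain

theorem card_H : Nat.card H = 604800 := main_aux

instance trans : IsPretransitive H (Fin 100) :=
  isPretransitive_of_bfs (fs := [fa, fb]) (b := 0) (fun f hf => by
    rcases List.mem_cons.1 hf with rfl | hf
    · exact in_a
    · rw [List.mem_singleton.1 hf]
      exact in_b) (by norm_num) (by decide +kernel)

/-- Words for the stabiliser of the first point. -/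
def pw : List (List ℕ) := [[3, 2, 3, 2, 2, 2, 1], [2, 1, 1, 0, 3, 3]]

/-- The orbits of the stabiliser of the first point. -/
def orbL : List (ℕ × ℕ) := [(1, 36), (37, 63)]

theorem pw_fix : allF (fun f => allN (fun x => Nat.beq (f x) x) [0]) (pw.map (wordC gc)) = true := by decide +kernel

theorem part_ok : partRun 100 (pw.map (wordC gc)) ((0, 1) :: orbL) 0 = true := by decide +kernel

theorem arith_ok : ∀ x ∈ sums (orbL.map Prod.snd), (x + 1) ∣ 100 → x = 0 ∨ x + 1 = 100 := by decide

instance prim : IsPreprimitive H (Fin 100) :=
  isPreprimitive_of_part (E := E) (b := 0) (by norm_num) (words_stab gc_in (by norm_num) pw pw_fix) orbL part_ok arith_ok (by simp)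

instance ntH : Nontrivial H := by
  apply (Finite.one_lt_card_iff_nontrivial).1
  rw [card_H]
  norm_num

theorem simple_H : IsSimpleGroup H := by
  refine isSimple_of_gens (S := {E.perm fa, E.perm fb}) rfl (p := 5) (a := 2) (by norm_num) ?_ ?_ ?_
  · rw [Nat.card_eq_fintype_card, Fintype.card_fin]
    norm_num
  · rw [card_H]
    norm_num
  · rintro s (rfl | rfl)
    · exact order_a
    · exact order_b

end Cfsg.Agent.Lib.J2Grp
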