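import Cfsg.Agent.Lib.Compute.Basic

set_option autoImplicit false

namespace Cfsg.Agent.Lib.J2Grp

open Cfsg.Agent.Lib.Compute

/-- A chunk of the rows. -/
def rc0_0 : ℕ := 0x86c071430a422d40f0101ce59895060818d2306c38a0c0678712205a50c0819336e00783a0f04002e63730068d81902e178d1008df45481224392a90628b308012c81f449835423e01167308144411f89a1426508c7816d0000000000000001ffffffffe

/-- A chunk of the rows. -/
def rc0_1 : ℕ := 0x6083412aa8ca380391a1d22831e74a1920c25280061d4c31c13022c1008827e29a4b21ac4693c212ac816015825c838d40358348100e0010bf3c874cd04a9899001001b40e3dc44ab428d502415ae2a16801c30455a80f5051ca41941a418c2a603f4053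

/-- A chunk of the rows. -/
def rc0_2 : ℕ := 0xc8c0008416b054ae98d1a1c4393740232a11906201d3244a63c5960a7043848211d395005315082832001e491e6285a5a7212261089a40a0789a16880fb311918872a3900382500650dd1b040cd444b23c408ac5780231b24072009005e9d644f1109987

/-- A chunk of the rows. -/
def rc0_3 : ℕ := 0x70222225051344e9350d13059233d101c015841c968a4b0f01a14b8c894026861110729294d44062026a41daa1888c63e815489509944cd82019251a8c40f4a4a94a634248105730964a05b1a98508b2494200b6146b40594c58bc0027c042002af35289

/-- A chunk of the rows. -/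
def rc0_4 : ℕ := 0x602c19025f288e620d88a2c18121216882ed44e52404951c2640c090d8690f4a6c8009aa362691b5aec0d020000cec249249c588704c86811a03212a299e12e3650501a06c1051442374a352a8b51544c101409ce1041ade2e20433728244006a6e88093

/-- A chunk of the rows. -/
def rc0_5 : ℕ := 0x234d01612e85007e8100dd990338666864a28124c1a1c108ca10fa6808670c250e832602c6408eb6157110c12b0644110ea42170e2a592d431100c09a275007911720442bcc0e2c01107d48864896d118b890a081d5182a810307d788954984038282c3c

/-- A chunk of the rows. -/
def rc0_6 : ℕ := 0x24904dbe1005076a05b438206705825f0021a0b96435336100c8713568c014e0635a001a0caef00c3952008c872a92407064ef049820d0633068434312c249e83045c213320565c28a34101ed0e82c6052d2800180cec987d896212d030a5808009d9922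

/-- A chunk of the rows. -/
def rc0_7 : ℕ := 0x318690d395400c1f40804e4ca14fb182198b00a4da9c80504469647f0020c40e8cd03a21490d80e285b2860432b0c074075082364d2d866008b4b08b88122f204b889ab90a08424b1186849e0f4d028580d4480259a6340d4591211a44670940d9c3080a

/-- A chunk of the rows. -/
def rc0_8 : ℕ := 0x8432bc8601ca62278620d99000b86e4e8008965b1adc820808c4223798992815181144cca90a44ac8103dd109b03a00101de912534621cf2909081242a26642bda2c03002b64a32828013e4a4fc20143516a06116468216a4b880e3cc0891a8506861416

/-- A chunk of the rows. -/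
def rc0_9 : ℕ := 0x3c40543907e8a22902928123c1900393e82ae445432606011e4533d182621114d5081741238c839460202af097820b14e488e210a24e584d049702d885244928d20a4d9064933c012212b833d00c44948ea8e11947482107dc01c03091d5112748684122

/-- A chunk of the rows. -/
def rc0_10 : ℕ := 0xf211414175341b09a660609080b23a044ebe08c2845963410204a5c20f2da047155b431a00009ee0340e432595106b09920405e6128d7841a0a22271661082e1a0b0522a93781c0002a2ea582404cec3463780a900151d445608e1a8e52804fe44020aa8

/-- A chunk of the rows. -/
def rc0_11 : ℕ := 0x41456d142323f12140c8454468092da1b1439f040c11235190b01c40e460e1ec44744484aa028c596348a019cd1862640d40154380745c087742b0bb0848009a1983126162ba2125c84ac00057b30ad68203a87c2487020862843a8549e22c5448644542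

/-- A chunk of the rows. -/
def rc0_12 : ℕ := 0x461801cb91f3c030923e00cc0a80833926357900bb9cb08000530848b11a4d9c895e209b00022882c708d747604283547028

/-- The chunks of the rows. -/
noncomputable def rchunk0 (k : ℕ) : ℕ :=
  (bcond (tb k 3) (bcond (tb k 2) (bcond (tb k 1) (bcond (tb k 0) 0 0) (bcond (tb k 0) 0 rc0_12)) (bcond (tb k 1) (bcond (tb k 0) rc0_11 rc0_10) (bcond (tb k 0) rc0_9 rc0_8))) (bcond (tb k 2) (bcond (tb k 1) (bcond (tb k 0) rc0_7 rc0_6) (bcond (tb k 0) rc0_5 rc0_4)) (bcond (tb k 1) (bcond (tb k 0) rc0_3 rc0_2) (bcond (tb k 0) rc0_1 rc0_0))))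

/-- A row of the relation. -/
noncomputable def row0 (i : ℕ) : ℕ :=
  Nat.land (Nat.shiftRight (rchunk0 (Nat.shiftRight i 3)) (Nat.mul 100 (Nat.land i 7))) (Nat.pred (Nat.shiftLeft 1 100))

end Cfsg.Agent.Lib.J2Grp
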