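import Cfsg.Agent.Lib.PermKit.Parity
import Cfsg.Agent.Lib.PermKit.Benes
import Cfsg.Agent.Lib.J2Grp.Rows0

set_option autoImplicit false
set_option maxRecDepth 100000

namespace Cfsg.Agent.Lib.J2Grp

open Cfsg.Agent.Lib.Compute Cfsg.Agent.Lib.PermKit Equiv

/-- A packed permutation. -/
def tA : ℕ := 0x12090bb8168a575e9d71874c2e61174c0adb360ecb003e63e2c48350a44198746f61439a155cf1c6db9a59254c4c422b3f06da2a4a254e19836d32a9d80f5f182ae9308e6a283f8d8c8685e32079286b84a46ab58e8af32

/-- A packed permutation. -/
def tB : ℕ := 0x82c6890b0941595331c8974f8bbb4f2ef0d6c889dd09116352301962ab3cdbc3e50738347130f941e9425a05bc74230c638a16ba0c0001aba6199df610dedb922ab2f2552d0b9c79fa38ca970832594506934ec8c25525c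

/-- A packed permutation. -/
def tAi : ℕ := 0x24bea1e3804cd5457a7ceb8b4295a50d3c4707ddc9982991006354b078f51df5921f0bc15cb086aa820f82008d6b7668337281894b4843a87e0b08c26766a56cd12581d1d35d311834294dc49ba66b1ae8115d17578a8cb

/-- A packed permutation. -/
def tBi : ℕ := 0x59101a741466003856e5f526619646d7088844c35aa4dcd84603d5ca3cd31c62358ec0a95ecbc633e407431711f30359c9483ad89a6e6f0121397a87e482ba82ec5adaa2813e9a5e3e070f682e286ac0c6c8954b4b75926

/-- A packed permutation. -/
def tC : ℕ := 0x9b892daa3629ca9381cdea159dc3bb1efd75ab31c56972db6a51a626a8cdd2a5ef9e3dab06cb86f2184b84ad8b57ea67ce65017284f130a34820d142e4429b38844963e60aa01a1cf011e389860610ca22430e8a1608800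

/-- The code of a permutation. -/
noncomputable def fa (i : ℕ) : ℕ := pget 7 127 tA i

/-- The code of a permutation. -/
noncomputable def fb (i : ℕ) : ℕ := pget 7 127 tB i

/-- The code of a permutation. -/
noncomputable def fai (i : ℕ) : ℕ := pget 7 127 tAi i

/-- The code of a permutation. -/
noncomputable def fbi (i : ℕ) : ℕ := pget 7 127 tBi i

/-- The code of a permutation. -/
noncomputable def fc (i : ℕ) : ℕ := pget 7 127 tC i

/-- The codes of the generators and their inverses. -/
noncomputable def gc (k : ℕ) : ℕ → ℕ :=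
  Nat.rec fa (fun j _ => Nat.rec fb (fun j _ => Nat.rec fai (fun _ _ => fbi) j) j) k

/-- The relation. -/
noncomputable def rows (_r i : ℕ) : ℕ := row0 i

/-- The encoding of the points. -/
abbrev E : Enc (Fin 100) 100 := encF 100

/-- The group. -/
noncomputable def H : Subgroup (Perm (Fin 100)) := Subgroup.closure {E.perm fa, E.perm fb}

/-- A swap network for the first generator. -/
def layA : List (ℕ × ℕ) := [(64, 0xfca9f066342058d0), (32, 0xe835600c00000000ab1c7a48), (16, 0x18b80000bc520000b1c80000c694), (8, 0x9000e000d2008c00dc001c00f000d8), (4, 0x402000a0c04000604080c040e000406), (2, 0x20200002000202002020020000200020), (1, 0x40155051540414014010110405104040), (2, 0x20202013122231030020030102201221), (4, 0x308020007050e0b0806000d000402), (8, 0xb00038006a002400de001c006100d2), (16, 0x28b10000c81100009bd80000c524), (32, 0x74bd402900000000ab1e78c5), (64, 0xfca9f06971a3cfe2)]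

/-- A swap network for the second generator. -/
def layB : List (ℕ × ℕ) := [(64, 0xd7ab2762803fd66c), (32, 0x7161072000000000abb56bda), (16, 0x61680000e9c4000072cc00006448), (8, 0x82000000fa008600ca004800400074), (4, 0x804000404040e04080a0c040c000800), (2, 0x2002020000202000202020020020000), (1, 0x11014140144101401111044110041450), (2, 0x1032022322223323220000230123010), (4, 0xb0404060e090b0d090e0c0d0c040c09), (8, 0xa0006400070010003b00cb00500074), (16, 0x444b00007cd10000f24d00003056), (32, 0xb74106070000000083e52bc1), (64, 0xd7ab2769f97b8b3d)]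

/-- A swap network for the odd involution. -/
def layC : List (ℕ × ℕ) := [(64, 0xe58346000000000), (32, 0x34686c400000000004100100), (16, 0x4100000a85600000c180000e082), (8, 0xc000c00e40004000400600044), (4, 0xc0808080e080408000a02000c080004), (2, 0x20000000200020200220000002), (1, 0x10400550101411400410050004), (2, 0x30203021031303230020210221201012), (4, 0xc08080a0e080408000a02010c080004), (8, 0x28000c000c00e400040004006000ec), (16, 0x4100000a85600008c180000e282), (32, 0x36686c400000000004100100), (64, 0xe58346000000000)]

theorem pa : checkPerm 100 fa = true := by decide +kernel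
theorem pb : checkPerm 100 fb = true := by decide +kernel
theorem pc : checkPerm 100 fc = true := by decide +kernel
theorem ia : allBelow (fun i => Nat.beq (fai (fa i)) i) 100 = true := by decide +kernel
theorem ib : allBelow (fun i => Nat.beq (fbi (fb i)) i) 100 = true := by decide +kernel
theorem oa : allBelow (fun i => Nat.beq (iterF fa 5 i) i) 100 = true := by decide +kernel
theorem ob : allBelow (fun i => Nat.beq (iterF fb 5 i) i) 100 = true := by decide +kernel
theorem na : fa 0 ≠ 0 := by decide +kernel
theorem nb : fb 0 ≠ 0 := by decide +kernel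
theorem cc : allBelow (fun i => Nat.beq (fc (fc i)) i) 100 = true := by decide +kernel
theorem mc : Enc.popAux (movedMask 100 fc) 100 = 2 * 43 := by decide +kernel

theorem ba : benesOK 100 1 rows fa layA = true := by decide +kernel
theorem bb : benesOK 100 1 rows fb layB = true := by decide +kernel
theorem bc : benesOK 100 1 rows fc layC = true := by decide +kernel

theorem aut_a : E.perm fa ∈ autG E rows 1 := perm_mem_autG_benes E pa ba
theorem aut_b : E.perm fb ∈ autG E rows 1 := perm_mem_autG_benes E pb bb
theorem aut_c : E.perm fc ∈ autG E rows 1 := perm_mem_autG_benes E pc bc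

theorem H_le : H ≤ autG E rows 1 := closure_pair_le aut_a aut_b

theorem mem_a : E.perm fa ∈ H := mem_pair_left _ _
theorem mem_b : E.perm fb ∈ H := mem_pair_right _ _

theorem in_a : InK E H fa := ⟨_, mem_a, Enc.isCode_perm E pa⟩
theorem in_b : InK E H fb := ⟨_, mem_b, Enc.isCode_perm E pb⟩
theorem in_ai : InK E H fai := inK_inv mem_a (Enc.isCode_perm E pa) ia
theorem in_bi : InK E H fbi := inK_inv mem_b (Enc.isCode_perm E pb) ib

theorem gc_in (k : ℕ) : InK E H (gc k) := gc_inK in_a in_b in_ai in_bi k

theorem order_a : orderOf (E.perm fa) = 5 :=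
  orderOf_of_code (by norm_num) (Enc.isCode_perm E pa) oa (by norm_num) na

theorem order_b : orderOf (E.perm fb) = 5 :=
  orderOf_of_code (by norm_num) (Enc.isCode_perm E pb) ob (by norm_num) nb

theorem H_even : H ≤ alternatingGroup (Fin 100) :=
  closure_pair_le (mem_alt_of_odd_order order_a (by norm_num)) (mem_alt_of_odd_order order_b (by norm_num))

theorem sign_c : E.perm fc * E.perm fc = 1 ∧ Perm.sign (E.perm fc) = -1 :=
  sign_of_code (Enc.isCode_perm E pc) cc mc (by norm_num)

end Cfsg.Agent.Lib.J2Grp
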